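import Cfsg.Agent.PermB.InducedAltReduce

/-!
Gleason's lemma for a group stabilising a set `F` of points in which the pairs through a given point
are exactly the fixed-point sets in `F` of `p`-subgroups.
-/

set_option autoImplicit false

namespace Cfsg.Agent.BenderCons37

open MulAction

universe u v

variable {G : Type u} [Group G] {Ω : Type v} [MulAction G Ω] [Finite Ω] {p : ℕ} [Fact p.Prime]
  {N : Subgroup G} {F : Set Ω}

/-- The point stabiliser is transitive on the other points of `F`. -/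
theorem transitive_of_exact_pairs [Finite G] {x : Ω} (hF : ∀ g ∈ N, ∀ c ∈ F, g • c ∈ F)
    (hex : ∀ y ∈ F, y ≠ x → ∃ R : Subgroup G, R ≤ N ∧ IsPGroup p R ∧
      (∀ r ∈ R, r • x = x) ∧ ∀ c ∈ F, (∀ r ∈ R, r • c = c) ↔ c = x ∨ c = y)
    {y z : Ω} (hy : y ∈ F) (hyx : y ≠ x) (hz : z ∈ F) (hzx : z ≠ x) :
    ∃ g ∈ N, g • x = x ∧ g • y = z := by
  classical
  haveI := Fintype.ofFinite Ω
  obtain ⟨g, hg, he⟩ := PermB.InducedAlt.gleason (p := p) (N ⊓ stabilizer G x) {x} F.toFinset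
    (fun h hh c hc => by rw [Finset.mem_singleton.1 hc]; exact (Subgroup.mem_inf.1 hh).2)
    (fun h hh c hc => Set.mem_toFinset.2 (hF h (Subgroup.mem_inf.1 hh).1 c (Set.mem_toFinset.1 hc)))
    (fun a ha haT => by
      obtain ⟨R, hRN, hR, hRx, hfix⟩ := hex a (Set.mem_toFinset.1 ha) (by simpa using haT)
      exact ⟨R, le_inf hRN hRx, hR, fun c hc => by
        rw [hfix c (Set.mem_toFinset.1 hc), Finset.mem_singleton]⟩)
    (Set.mem_toFinset.2 hy) (by simpa using hyx) (Set.mem_toFinset.2 hz) (by simpa using hzx)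
  exact ⟨g, (Subgroup.mem_inf.1 hg).1, (Subgroup.mem_inf.1 hg).2, he⟩

/-- Either the point is fixed by `N` or `N` is transitive on `F`. -/
theorem fixed_or_transitive [Finite G] {x : Ω} (hF : ∀ g ∈ N, ∀ c ∈ F, g • c ∈ F) (hx : x ∈ F)
    (hex : ∀ y ∈ F, y ≠ x → ∃ R : Subgroup G, R ≤ N ∧ IsPGroup p R ∧
      (∀ r ∈ R, r • x = x) ∧ ∀ c ∈ F, (∀ r ∈ R, r • c = c) ↔ c = x ∨ c = y) :
    (∀ g ∈ N, g • x = x) ∨ ∀ y ∈ F, ∃ g ∈ N, g • x = y := by
  by_cases h : ∀ g ∈ N, g • x = x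
  · exact Or.inl h
  · push Not at h
    obtain ⟨g, hg, hne⟩ := h
    refine Or.inr fun y hy => ?_
    by_cases hyx : y = x
    · exact ⟨1, one_mem _, by rw [hyx, one_smul]⟩
    · obtain ⟨k, hk, -, he⟩ := transitive_of_exact_pairs hF hex (hF g hg x hx) hne hy hyx
      exact ⟨k * g, mul_mem hk hg, by rw [mul_smul, he]⟩

/-- If all pairs of `F` are exact then `N` is transitive on ordered pairs. -/
theorem two_transitive_of_exact_pairs [Finite G] (hF : ∀ g ∈ N, ∀ c ∈ F, g • c ∈ F)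
    (h3 : 2 < F.ncard)
    (hex : ∀ x ∈ F, ∀ y ∈ F, y ≠ x → ∃ R : Subgroup G, R ≤ N ∧ IsPGroup p R ∧
      (∀ r ∈ R, r • x = x) ∧ ∀ c ∈ F, (∀ r ∈ R, r • c = c) ↔ c = x ∨ c = y)
    {x y x' y' : Ω} (hx : x ∈ F) (hy : y ∈ F) (hx' : x' ∈ F) (hy' : y' ∈ F)
    (hne : x ≠ y) (hne' : x' ≠ y') : ∃ g ∈ N, g • x = x' ∧ g • y = y' := by
  -- transitivity: pass through a third point
  have htr : ∀ a ∈ F, ∀ b ∈ F, ∃ g ∈ N, g • a = b := by
    intro a ha b hb
    by_cases hab : b = a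
    · exact ⟨1, one_mem _, by rw [hab, one_smul]⟩
    obtain ⟨c, hc, hca, hcb⟩ : ∃ c ∈ F, c ≠ a ∧ c ≠ b := by
      by_contra hcon
      push Not at hcon
      have hsub : F ⊆ {a, b} := fun c hc => by
        by_cases hca : c = a
        · exact Or.inl hca
        · exact Or.inr (hcon c hc hca)
      have h2 := Set.ncard_le_ncard hsub (Set.toFinite _)
      rw [Set.ncard_pair (Ne.symm hab)] at h2
      omega
    obtain ⟨g, hg, -, he⟩ := transitive_of_exact_pairs hF (hex c hc) ha (Ne.symm hca) hb (Ne.symm hcb)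
    exact ⟨g, hg, he⟩
  obtain ⟨g, hg, rfl⟩ := htr x hx x' hx'
  have hgy : g • y ≠ g • x := fun e => hne (MulAction.injective g e).symm
  obtain ⟨k, hk, hkx, hky⟩ :=
    transitive_of_exact_pairs hF (hex _ hx') (hF g hg y hy) hgy hy' (Ne.symm hne')
  exact ⟨k * g, mul_mem hk hg, by rw [mul_smul, hkx], by rw [mul_smul, hky]⟩

end Cfsg.Agent.BenderCons37
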