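import Cfsg.Agent.Fusion92.FocalControl

/-!
Transfer: if a subgroup `E` of a normal subgroup `M` contains a Sylow `r`-subgroup of `M` and controls
its fusion in `M`, then every abelian `r`-quotient of `E` comes from a normal subgroup of `G` inside
`M` supplemented by `E`.  Iterating over all primes gives a normal complement to a solvable subgroup.
-/

set_option autoImplicit false

namespace Cfsg.Agent.BenderCons37

open Subgroup
open scoped commutatorElement

universe u

variable {G : Type u} [Group G]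

/-- `E` contains a Sylow `r`-subgroup of `M` and controls its fusion in `M`. -/
def SylowControl (r : ℕ) (E M : Subgroup G) : Prop :=
  ∃ P : Subgroup G, P ≤ E ∧ IsPGroup r P ∧ ¬ r ∣ P.relIndex M ∧
    ∀ x ∈ P, ∀ u ∈ M, u * x * u⁻¹ ∈ P → ∃ d ∈ E, u * x * u⁻¹ = d * x * d⁻¹

/-- The elements of `M` whose `n`-th power lies in the derived subgroup of `M`. -/
noncomputable def powKer (M : Subgroup G) (n : ℕ) : Subgroup G :=
  (((powMonoidHom n).comp (Abelianization.of : ↥M →* Abelianization ↥M)).ker).map M.subtype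

theorem powKer_le (M : Subgroup G) (n : ℕ) : powKer M n ≤ M := map_subtype_le _

theorem mem_powKer {M : Subgroup G} {n : ℕ} {g : G} :
    g ∈ powKer M n ↔ g ∈ M ∧ g ^ n ∈ ⁅M, M⁆ := by
  constructor
  · rintro ⟨x, hx, rfl⟩
    refine ⟨x.2, ?_⟩
    rw [← Subgroup.map_subtype_commutator]
    refine ⟨x ^ n, ?_, map_pow _ _ _⟩
    rw [SetLike.mem_coe, MonoidHom.mem_ker, MonoidHom.comp_apply, powMonoidHom_apply, ← map_pow] at hx
    exact (QuotientGroup.eq_one_iff _).1 hx
  · rintro ⟨hg, hpow⟩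
    refine ⟨⟨g, hg⟩, ?_, rfl⟩
    rw [← Subgroup.map_subtype_commutator] at hpow
    obtain ⟨y, hy, hye⟩ := hpow
    rw [SetLike.mem_coe, MonoidHom.mem_ker, MonoidHom.comp_apply, powMonoidHom_apply, ← map_pow]
    refine (QuotientGroup.eq_one_iff _).2 ?_
    have : y = (⟨g, hg⟩ : M) ^ n := Subtype.ext hye
    exact this ▸ hy

theorem powKer_normal {M : Subgroup G} [M.Normal] (n : ℕ) : (powKer M n).Normal := by
  constructor
  intro g hg c
  rw [mem_powKer] at hg ⊢
  refine ⟨Subgroup.Normal.conj_mem inferInstance g hg.1 c, ?_⟩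
  rw [conj_pow]
  exact Subgroup.Normal.conj_mem inferInstance _ hg.2 c

variable [Finite G]

omit [Finite G] in
/-- A point stabiliser controls fusion if centralisers are transitive on the fixed points that lie in
the orbit. -/
theorem control_of_centralizer_transitive {Ω : Type*} [MulAction G Ω] {M : Subgroup G} {b : Ω}
    {x u : G} (hu : u ∈ M)
    (hy : (u * x * u⁻¹) • b = b)
    (htrans : ∀ v ∈ M, x • v • b = v • b → ∃ c ∈ M, c * x = x * c ∧ c • b = v • b) :
    ∃ d ∈ M ⊓ MulAction.stabilizer G b, u * x * u⁻¹ = d * x * d⁻¹ := by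
  obtain ⟨c, hcM, hcx, hcb⟩ := htrans u⁻¹ (inv_mem hu) (by
    rw [mul_smul, mul_smul] at hy
    calc x • u⁻¹ • b = u⁻¹ • (u • x • u⁻¹ • b) := (inv_smul_smul u _).symm
      _ = u⁻¹ • b := by rw [hy])
  refine ⟨u * c, Subgroup.mem_inf.2 ⟨mul_mem hu hcM, ?_⟩, ?_⟩
  · rw [MulAction.mem_stabilizer_iff, mul_smul, hcb, smul_inv_smul]
  · rw [mul_inv_rev, show u * c * x * (c⁻¹ * u⁻¹) = u * (c * x) * c⁻¹ * u⁻¹ by group, hcx]
    group

/-- One transfer step. -/
theorem exists_smaller {r : ℕ} (hr : r.Prime) {E M : Subgroup G} [M.Normal] (hEM : E ≤ M)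
    (hc : SylowControl r E M) (hq : r ∣ ⁅E, E⁆.relIndex E) :
    ∃ M₁ : Subgroup G, M₁.Normal ∧ M₁ < M ∧ M₁ ⊔ E = M ∧
      ∀ g ∈ M, (orderOf g).Coprime r → g ∈ M₁ := by
  classical
  haveI : Fact r.Prime := ⟨hr⟩
  obtain ⟨P, hPE, hP, hidx, hfus⟩ := hc
  have hPM : P ≤ M := hPE.trans hEM
  let Q : Sylow r M := IsPGroup.toSylow
    (hP.of_equiv (subgroupOfEquivOfLe hPM).symm) (by simpa [Subgroup.relIndex] using hidx)
  have hQ : (Q : Subgroup M) = P.subgroupOf M := IsPGroup.toSylow_coe ..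
  set n := (P.subgroupOf M).index with hn
  have hcop : ∀ k : ℕ, (r ^ k).Coprime n := fun k =>
    (hr.coprime_iff_not_dvd.2 (by simpa [Subgroup.relIndex, hn] using hidx)).pow_left k
  -- the focal subgroup theorem
  have hfoc : ∀ x ∈ P, x ∈ ⁅M, M⁆ → x ∈ ⁅E, E⁆ := by
    intro x hx hxM
    rw [← Subgroup.map_subtype_commutator] at hxM
    obtain ⟨y, hy, rfl⟩ := hxM
    have h1 := Fusion92.sylow_inf_commutator_le Q (H := ⊤) (M := (⁅E, E⁆).subgroupOf M) le_top
      (fun a ha u _ hu => by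
        rw [hQ] at ha hu
        obtain ⟨d, hd, he⟩ := hfus _ (Subgroup.mem_subgroupOf.1 ha) u u.2 (by
          simpa using Subgroup.mem_subgroupOf.1 hu)
        rw [Subgroup.mem_subgroupOf]
        have he' : (((a⁻¹ * (u * a * u⁻¹) : M)) : G) = ⁅((a : G))⁻¹, d⁆ := by
          push_cast
          rw [he, commutatorElement_def]; group
        rw [he']
        exact Subgroup.commutator_mem_commutator (inv_mem (hPE (Subgroup.mem_subgroupOf.1 ha))) hd)
    refine Subgroup.mem_subgroupOf.1 (h1 ⟨?_, ?_⟩)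
    · rw [hQ]; exact Subgroup.mem_subgroupOf.2 hx
    · rw [← _root_.commutator_def]; exact hy
  have hcomm : ⁅M, M⁆ ≤ powKer M n := fun g hg => mem_powKer.2
    ⟨(Subgroup.commutator_le_left M M) hg, pow_mem hg n⟩
  have hPK : ∀ x ∈ P, x ∈ powKer M n → x ∈ ⁅E, E⁆ := by
    intro x hx hxK
    refine hfoc x hx ?_
    obtain ⟨k, hk⟩ := hP ⟨x, hx⟩
    have hk' : x ^ r ^ k = 1 := congrArg Subtype.val hk
    have hone : x = (x ^ r ^ k) ^ (Nat.gcdA (r ^ k) n) * (x ^ n) ^ (Nat.gcdB (r ^ k) n) := by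
      have hb := Nat.gcd_eq_gcd_ab (r ^ k) n
      rw [(hcop k).gcd_eq_one] at hb
      conv_lhs => rw [← zpow_one x, show ((1 : ℤ)) = ((1 : ℕ) : ℤ) from rfl, hb]
      rw [zpow_add, zpow_mul, zpow_mul, zpow_natCast, zpow_natCast]
    rw [hone, hk', one_zpow, one_mul]
    exact zpow_mem (mem_powKer.1 hxK).2 _
  -- elements of order prime to `r` lie in the kernel
  have hK : ∀ g ∈ M, (orderOf g).Coprime r → g ∈ powKer M n := by
    intro g hg hgr
    refine mem_powKer.2 ⟨hg, ?_⟩
    have h1 : orderOf (⟨g, hg⟩ : M) ∣ n * Nat.card (P.subgroupOf M) := by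
      rw [hn, mul_comm, Subgroup.card_mul_index]; exact orderOf_dvd_natCard _
    obtain ⟨k, hk⟩ := IsPGroup.iff_card.1 (hP.of_equiv (subgroupOfEquivOfLe hPM).symm)
    have h2 : orderOf (⟨g, hg⟩ : M) ∣ n := by
      rw [hk] at h1
      refine Nat.Coprime.dvd_of_dvd_mul_right ?_ h1
      rw [Subgroup.orderOf_mk]
      exact hgr.pow_right k
    have := orderOf_dvd_iff_pow_eq_one.1 h2
    rw [show g ^ n = 1 from congrArg Subtype.val this]
    exact one_mem _
  haveI := powKer_normal (M := M) n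
  -- `P` supplements the kernel
  have hsup : M ≤ powKer M n ⊔ P := by
    intro g hg
    have hcard : ∀ x : M, x ^ n ∈ (powKer M n ⊔ P).subgroupOf M → x ∈ (powKer M n ⊔ P).subgroupOf M := by
      intro x hx
      obtain ⟨k, hk⟩ := IsPGroup.iff_card.1 (hP.of_equiv (subgroupOfEquivOfLe hPM).symm)
      have hpk : ((x : G)) ^ r ^ k ∈ powKer M n := by
        refine mem_powKer.2 ⟨pow_mem x.2 _, ?_⟩
        rw [← pow_mul, show r ^ k * n = Nat.card M by rw [← hk, hn, Subgroup.card_mul_index]]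
        have : x ^ Nat.card M = 1 := pow_card_eq_one'
        rw [show (x : G) ^ Nat.card M = 1 from congrArg Subtype.val this]
        exact one_mem _
      have hb := Nat.gcd_eq_gcd_ab (r ^ k) n
      rw [(hcop k).gcd_eq_one] at hb
      have hone : x = (x ^ r ^ k) ^ (Nat.gcdA (r ^ k) n) * (x ^ n) ^ (Nat.gcdB (r ^ k) n) := by
        conv_lhs => rw [← zpow_one x, show ((1 : ℤ)) = ((1 : ℕ) : ℤ) from rfl, hb]
        rw [zpow_add, zpow_mul, zpow_mul, zpow_natCast, zpow_natCast]
      rw [hone]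
      exact mul_mem (zpow_mem (Subgroup.mem_subgroupOf.2 (Subgroup.mem_sup_left hpk)) _) (zpow_mem hx _)
    refine Subgroup.mem_subgroupOf.1 (hcard ⟨g, hg⟩ ?_)
    -- modulo the kernel the power lies in the image of `P`
    set L := (powKer M n ⊔ P).subgroupOf M with hL
    have hLn : L.Normal := by
      refine ⟨fun a ha c => ?_⟩
      have h1 : c * a * c⁻¹ * a⁻¹ ∈ L := by
        refine Subgroup.mem_subgroupOf.2 (Subgroup.mem_sup_left (hcomm ?_))
        push_cast
        exact Subgroup.commutator_mem_commutator c.2 a.2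
      simpa using mul_mem h1 ha
    have hidx' : L.index ∣ n := Subgroup.index_dvd_of_le
      (fun a ha => Subgroup.mem_subgroupOf.2 (Subgroup.mem_sup_right (Subgroup.mem_subgroupOf.1 ha)))
    obtain ⟨c, hc⟩ := hidx'
    rw [hc, pow_mul]
    haveI := hLn
    exact pow_mem (L.pow_index_mem _) c
  have hsupE : powKer M n ⊔ E = M :=
    le_antisymm (sup_le (powKer_le M n) hEM) (hsup.trans (sup_le_sup_left hPE _))
  refine ⟨powKer M n, inferInstance, lt_of_le_of_ne (powKer_le M n) fun heq => ?_, hsupE, hK⟩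
  -- otherwise `P` lies in the derived subgroup of `E`
  have hPle : P ≤ ⁅E, E⁆ := fun x hx => hPK x hx (by rw [heq]; exact hPM hx)
  have h1 : ⁅E, E⁆.relIndex E ∣ P.relIndex E := Subgroup.relIndex_dvd_of_le_left E hPle
  exact hidx (hq.trans (h1.trans ⟨E.relIndex M, (Subgroup.relIndex_mul_relIndex P E M hPE hEM).symm⟩))

/-- A solvable subgroup has a normal complement if, in every normal supplement containing a given set
of elements of order prime to it, it contains Sylow subgroups and controls their fusion. -/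
theorem exists_normal_complement (D : Subgroup G) [Group.IsSolvable D] (T : Set G)
    (hT : ∀ t ∈ T, (orderOf t).Coprime (Nat.card D))
    (hctl : ∀ M : Subgroup G, M.Normal → T ⊆ M → M ⊔ D = ⊤ →
      ∀ r : ℕ, r.Prime → r ∣ Nat.card ↥(M ⊓ D) → SylowControl r (M ⊓ D) M) :
    ∃ M : Subgroup G, M.Normal ∧ T ⊆ M ∧ M ⊔ D = ⊤ ∧ M ⊓ D = ⊥ := by
  classical
  suffices h : ∀ (k : ℕ) (M : Subgroup G), Nat.card M = k → M.Normal → T ⊆ M → M ⊔ D = ⊤ →
      ∃ M : Subgroup G, M.Normal ∧ T ⊆ M ∧ M ⊔ D = ⊤ ∧ M ⊓ D = ⊥ from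
    h _ ⊤ rfl inferInstance (fun _ _ => Subgroup.mem_top _) (top_sup_eq D)
  intro k
  induction k using Nat.strong_induction_on with
  | _ k ih =>
    intro M hk hMn hTM hMD
    by_cases hbot : M ⊓ D = ⊥
    · exact ⟨M, hMn, hTM, hMD, hbot⟩
    set E := M ⊓ D with hE
    haveI : Group.IsSolvable E :=
      solvable_of_solvable_injective (Subgroup.inclusion_injective (inf_le_right : E ≤ D))
    haveI : Nontrivial E := (Subgroup.nontrivial_iff_ne_bot E).2 hbot
    have hne : ⁅E, E⁆.relIndex E ≠ 1 := by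
      rw [Ne, Subgroup.relIndex_eq_one, ← Subgroup.map_subtype_commutator]
      intro hle
      have h := Group.IsSolvable.commutator_lt_top_of_nontrivial E
      exact h.ne (top_le_iff.1 fun x _ => by
        obtain ⟨y, hy, hye⟩ := hle x.2
        rwa [Subtype.ext hye] at hy)
    obtain ⟨r, hr, hrd⟩ := Nat.exists_prime_and_dvd hne
    have hrE : r ∣ Nat.card E := hrd.trans (Subgroup.relIndex_dvd_card _ _)
    obtain ⟨M₁, hM₁n, hlt, hsup, hcop⟩ :=
      exists_smaller hr (inf_le_left : E ≤ M) (hctl M hMn hTM hMD r hr hrE) hrd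
    refine ih (Nat.card M₁) ?_ M₁ rfl hM₁n (fun t ht => hcop t (hTM ht) ?_) ?_
    · rw [← hk]
      exact Set.ncard_lt_ncard (SetLike.coe_ssubset_coe.2 hlt) (Set.toFinite _)
    · exact Nat.Coprime.coprime_dvd_right
        (hrE.trans (Subgroup.card_dvd_of_le inf_le_right)) (hT t ht)
    · rw [← hMD, ← hsup, sup_assoc, sup_eq_right.2 (inf_le_right : E ≤ D)]

end Cfsg.Agent.BenderCons37
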