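import Cfsg.Agent.BenderCons37.Discharge
import Cfsg.Agent.BenderCons37.Fusion
import Cfsg.Agent.Bender43.Main

/-!
Glue for Bender's theorem: `BenderSplit` by induction on the order, the regular normal subgroup
from a complement to a two-point stabiliser, and what the induction hypothesis says about the
involutions of a strongly embedded subgroup.
-/

set_option autoImplicit false

namespace Cfsg.Agent.BenderCons37

open Subgroup MulAction

universe u

/-- `BenderSplit` for groups of order less than `n`. -/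
def BenderSplitBelow (n : ℕ) : Prop :=
  ∀ (X : Type u) [Group X] [Finite X] (K : Subgroup X), Nat.card X < n →
    Cfsg.IsStronglyEmbedded K → RankTwo X → Cfsg.oddCore X = ⊥ →
      ∃ Q : Subgroup X, IsRegularNormal K Q

/-- Induction on the order. -/
theorem benderSplit_of_step
    (hstep : ∀ (X : Type u) [Group X] [Finite X] (K : Subgroup X),
      BenderSplitBelow.{u} (Nat.card X) → Cfsg.IsStronglyEmbedded K → RankTwo X →
        Cfsg.oddCore X = ⊥ → ∃ Q : Subgroup X, IsRegularNormal K Q) :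
    BenderSplit.{u} := by
  suffices h : ∀ n, BenderSplitBelow.{u} n from
    fun X _ _ K => h (Nat.card X + 1) X K (Nat.lt_succ_self _)
  intro n
  induction n with
  | zero => exact fun X _ _ _ h => absurd h (Nat.not_lt_zero _)
  | succ n ih =>
    intro X _ _ K hlt hK h2 hO
    refine hstep X K ?_ hK h2 hO
    intro Y _ _ L hY
    exact ih Y L (hY.trans_le (Nat.lt_succ_iff.1 hlt))

variable {G : Type u} [Group G] [Finite G] {H : Subgroup G}

/-- With trivial odd core, `H` is transitive on the other cosets. -/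
theorem transitive_of_core (hH : Cfsg.IsStronglyEmbedded H) (hO : Cfsg.oddCore G = ⊥)
    {g₁ g₂ : G} (h₁ : g₁ ∉ H) (h₂ : g₂ ∉ H) : ∃ h ∈ H, g₂⁻¹ * (h * g₁) ∈ H := by
  rcases Bender43.dichotomy hH with h | ⟨-, h⟩
  · exact h g₁ g₂ h₁ h₂
  · rw [hO, bot_sup_eq] at h
    exact absurd h hH.1

/-- A normal complement of a two-point stabiliser is regular on the other cosets. -/
theorem isRegularNormal_of_complement (hH : Cfsg.IsStronglyEmbedded H) (hO : Cfsg.oddCore G = ⊥)
    {Q : Subgroup G} (hQH : Q ≤ H) (hQn : (Q.subgroupOf H).Normal) {g₀ : G} (hg₀ : g₀ ∉ H)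
    (hsup : H ≤ Q ⊔ H ⊓ H.map (MulAut.conj g₀).toMonoidHom)
    (hinf : Q ⊓ H.map (MulAut.conj g₀).toMonoidHom = ⊥) : IsRegularNormal H Q := by
  set D := H ⊓ H.map (MulAut.conj g₀).toMonoidHom with hD
  have hmem : ∀ x : G, x ∈ H.map (MulAut.conj g₀).toMonoidHom ↔ g₀⁻¹ * x * g₀ ∈ H := fun x =>
    ⟨by rintro ⟨y, hy, rfl⟩; simpa [mul_assoc] using hy, fun h => ⟨_, h, by simp [mul_assoc]⟩⟩
  -- every coset other than `H` is `q g₀ H`
  have hrep : ∀ g : G, g ∉ H → ∃ q ∈ Q, g₀⁻¹ * q * g ∈ H := by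
    intro g hg
    obtain ⟨h, hh, hhg⟩ := transitive_of_core hH hO hg hg₀
    have hh' : (⟨h, hh⟩ : H) ∈ Q.subgroupOf H ⊔ D.subgroupOf H := by
      rw [← Subgroup.subgroupOf_sup hQH inf_le_left]
      exact Subgroup.mem_subgroupOf.2 (hsup hh)
    haveI := hQn
    obtain ⟨q, hq, d, hd, he⟩ := Subgroup.mem_sup_of_normal_right.1 (sup_comm (Q.subgroupOf H) _ ▸ hh')
    have hd' : g₀⁻¹ * (q : G) * g₀ ∈ H := (hmem _).1 (Subgroup.mem_inf.1 (Subgroup.mem_subgroupOf.1 hq)).2
    refine ⟨d, Subgroup.mem_subgroupOf.1 hd, ?_⟩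
    have h1 : h = (q : G) * (d : G) := congrArg Subtype.val he.symm
    rw [h1] at hhg
    have := mul_mem (inv_mem hd') hhg
    simpa [mul_assoc] using this
  refine ⟨hQH, hQn, fun g₁ g₂ h₁ h₂ => ?_, fun g hg u hu hug => ?_⟩
  · obtain ⟨q₁, hq₁, h1⟩ := hrep g₁ h₁
    obtain ⟨q₂, hq₂, h2⟩ := hrep g₂ h₂
    refine ⟨q₂⁻¹ * q₁, mul_mem (inv_mem hq₂) hq₁, ?_⟩
    have := mul_mem (inv_mem h2) h1
    simpa [mul_assoc] using this
  · obtain ⟨q, hq, hqg⟩ := hrep g hg
    have h1 : q * u * q⁻¹ ∈ Q ⊓ H.map (MulAut.conj g₀).toMonoidHom := by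
      refine Subgroup.mem_inf.2 ⟨mul_mem (mul_mem hq hu) (inv_mem hq), (hmem _).2 ?_⟩
      have := mul_mem (mul_mem hqg hug) (inv_mem hqg)
      simpa [mul_assoc] using this
    rw [hinf, Subgroup.mem_bot] at h1
    simpa using h1

/-- The regular normal subgroup from fusion control in the supplements of the two-point
stabiliser. -/
theorem exists_regularNormal_of_control (hH : Cfsg.IsStronglyEmbedded H)
    (hO : Cfsg.oddCore G = ⊥) {g₀ : G} (hg₀ : g₀ ∉ H) (D : Subgroup H)
    (hD : D = (H.map (MulAut.conj g₀).toMonoidHom).subgroupOf H) [Group.IsSolvable D] (T : Set H)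
    (hT : ∀ t ∈ T, (orderOf t).Coprime (Nat.card D))
    (hctl : ∀ M : Subgroup H, M.Normal → T ⊆ M → M ⊔ D = ⊤ →
      ∀ r : ℕ, r.Prime → r ∣ Nat.card ↥(M ⊓ D) → SylowControl r (M ⊓ D) M) :
    ∃ Q : Subgroup G, IsRegularNormal H Q := by
  obtain ⟨M, hMn, -, hsup, hinf⟩ := exists_normal_complement D T hT hctl
  have hMH : M.map H.subtype ≤ H := Subgroup.map_subtype_le _
  have hsub : (M.map H.subtype).subgroupOf H = M :=
    Subgroup.comap_map_eq_self_of_injective H.subtype_injective M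
  refine ⟨M.map H.subtype, isRegularNormal_of_complement hH hO hMH (hsub.symm ▸ hMn) hg₀ ?_ ?_⟩
  · have h1 : (⊤ : Subgroup H).map H.subtype ≤ M.map H.subtype ⊔ H ⊓ H.map (MulAut.conj g₀).toMonoidHom := by
      rw [← hsup, Subgroup.map_sup, hD, Subgroup.subgroupOf_map_subtype, inf_comm]
    rwa [← MonoidHom.range_eq_map, Subgroup.range_subtype] at h1
  · refine (Subgroup.eq_bot_iff_forall _).2 ?_
    rintro _ ⟨⟨x, hx, rfl⟩, hxD⟩
    have : x ∈ M ⊓ D := Subgroup.mem_inf.2 ⟨hx, by rw [hD]; exact Subgroup.mem_subgroupOf.2 hxD⟩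
    rw [hinf, Subgroup.mem_bot] at this
    simp [this]

/-- Given a regular normal subgroup, the involutions of `H` commute. -/
theorem invol_commute (hH : Cfsg.IsStronglyEmbedded H) (h2 : RankTwo G)
    (hO : Cfsg.oddCore G = ⊥) {Q : Subgroup G} (hQ : IsRegularNormal H Q) {x y : G}
    (hx : x ∈ H) (hy : y ∈ H) (hxo : orderOf x = 2) (hyo : orderOf y = 2) : Commute x y := by
  obtain ⟨t, hR⟩ := exists_r1 hH h2 hO hQ
  have key : ∀ z : G, z ∈ H → orderOf z = 2 → z ∈ Q ∧ z * z = 1 := fun z hz hzo =>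
    have h := (Suz27.R1.mem_invol_iff hR).1 ⟨TwoFusionB.smul_one_eq_iff.2 hz,
      TwoFusionB.ne_one_of_inv hzo, TwoFusionB.sq_eq_one_of_inv hzo⟩
    ⟨h.1, h.2.2⟩
  exact hR.sq_one_central (key x hx hxo).1 (key x hx hxo).2 (key y hy hyo).1

/-- The induction hypothesis gives: in a smaller group the involutions of a strongly embedded
subgroup commute modulo the odd core, when there are two commuting involutions. -/
theorem commutator_mem_oddCore_of_below {n : ℕ} (hb : BenderSplitBelow.{u} n) (hn : Nat.card G < n)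
    (hH : Cfsg.IsStronglyEmbedded H) (h2 : RankTwo G) {x y : G} (hx : x ∈ H) (hy : y ∈ H)
    (hxo : orderOf x = 2) (hyo : orderOf y = 2) :
    x * y * (x * y) ∈ Cfsg.oddCore G := by
  set O := Cfsg.oddCore G with hOdef
  haveI : O.Normal := by rw [hOdef]; infer_instance
  set π := QuotientGroup.mk' O
  have hlt : Nat.card (G ⧸ O) < n :=
    lt_of_le_of_lt (Nat.card_le_card_of_surjective π (QuotientGroup.mk'_surjective O)) hn
  obtain ⟨Q, hQ⟩ := hb (G ⧸ O) (H.map π) hlt (stronglyEmbedded_map hH h2) (rankTwo_quotient h2)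
    oddCore_quotient
  have himg : ∀ z : G, orderOf z = 2 → orderOf (π z) = 2 := fun z hz =>
    orderOf_eq_two (fun e => by
      have hmem : z ∈ O := (QuotientGroup.eq_one_iff z).1 e
      have := (oddCore_card_odd (G := G)).of_dvd_nat (hz ▸ Subgroup.orderOf_dvd_natCard O hmem)
      exact absurd this (by decide))
      (by rw [← map_mul, TwoFusionB.sq_eq_one_of_inv hz, map_one])
  have hc := invol_commute (stronglyEmbedded_map hH h2) (rankTwo_quotient h2) oddCore_quotient hQ
    (mem_map_of_mem π hx) (mem_map_of_mem π hy) (himg x hxo) (himg y hyo)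
  rw [← QuotientGroup.eq_one_iff]
  show π (x * y * (x * y)) = 1
  rw [map_mul, map_mul]
  calc π x * π y * (π x * π y) = π x * (π y * π x) * π y := by group
    _ = 1 := by
      rw [← hc.eq, ← mul_assoc, ← map_mul π x x, TwoFusionB.sq_eq_one_of_inv hxo, map_one, one_mul,
        ← map_mul, TwoFusionB.sq_eq_one_of_inv hyo, map_one]

end Cfsg.Agent.BenderCons37
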