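import Cfsg.Agent.Bender85.Local
import Cfsg.Agent.BenderCons37.Glue

/-!
Bender's theorem, the induction hypothesis for a proper subgroup `N` with two centres and rank two:
a 2-group in the stabiliser of a centre that centralises the involutions of `N` at that centre and
is transitive on the other centres.
-/

set_option autoImplicit false

namespace Cfsg.Agent.BenderCons37

open Subgroup MulAction Bender43 Bender43.Fixed Bender85

universe u

variable {G : Type u} [Group G] [Finite G] {H : Subgroup G}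

/-- Involutions with a common centre commute. -/
theorem commute_of_invAt (hcomm : Comm H) {c : G ⧸ H} {x y : G} (hx : x ∈ invAt H c)
    (hy : y ∈ invAt H c) : Commute x y := by
  obtain ⟨g, rfl⟩ := QuotientGroup.mk_surjective c
  have ho : ∀ z : G, orderOf z = 2 → orderOf (g⁻¹ * z * g) = 2 := fun z hz => by
    simpa [hz] using TwoFusionB.orderOf_conj_eq g⁻¹ z
  have h := hcomm _ (TwoFusionB.smul_mk_eq_iff.1 hx.2) _ (TwoFusionB.smul_mk_eq_iff.1 hy.2)
    (ho x hx.1) (ho y hy.1)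
  have h' : g⁻¹ * (x * y) * g = g⁻¹ * (y * x) * g := by
    calc g⁻¹ * (x * y) * g = g⁻¹ * x * g * (g⁻¹ * y * g) := by group
      _ = g⁻¹ * y * g * (g⁻¹ * x * g) := h.eq
      _ = g⁻¹ * (y * x) * g := by group
  exact mul_left_cancel (mul_right_cancel h')

/-- In a proper subgroup `N` with involutions of two centres and rank two, the stabiliser of a
centre has a 2-subgroup that centralises the involutions of `N` at that centre and is transitive on
the other centres. -/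
theorem exists_twoGroup_trans (hC : Ctx H) (hsp : BenderSplitBelow.{u} (Nat.card G))
    (hcomm : Comm H) {N : Subgroup G} (hN : N ≠ ⊤) {v w : G} (hv : v ∈ N) (hv2 : orderOf v = 2)
    (hw : w ∈ N) (hw2 : orderOf w = 2) {cv cw : G ⧸ H} (hvc : v • cv = cv) (hwc : w • cw = cw)
    (hne : cv ≠ cw) (hR : RankTwo N) {z : G} (hz : z ∈ N) (hz2 : orderOf z = 2) {c : G ⧸ H}
    (hzc : z • c = c) :
    ∃ S : Subgroup G, IsPGroup 2 S ∧ S ≤ N ⊓ stabilizer G c ∧
      (∀ i ∈ invAt H c, i ∈ N → ∀ s ∈ S, Commute s i) ∧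
      ∀ x y : G, x ∈ N → orderOf x = 2 → y ∈ N → orderOf y = 2 → ∀ a b : G ⧸ H,
        x • a = a → y • b = b → a ≠ c → b ≠ c → ∃ s ∈ S, s • a = b := by
  haveI : Fact (Nat.Prime 2) := ⟨Nat.prime_two⟩
  set M := (stabilizer G c).subgroupOf N with hM
  have hMse := stronglyEmbedded_in hC hv hv2 hw hw2 hvc hwc hne hz hz2 hzc
  have hOM : Cfsg.oddCore N ≤ M := oddCore_le hMse hR
  set π := QuotientGroup.mk' (Cfsg.oddCore N) with hπ
  have hback : ∀ g : N, π g ∈ M.map π → g ∈ M := by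
    rintro g ⟨k, hk, hkg⟩
    have := mul_mem hk (hOM (QuotientGroup.eq.1 hkg))
    rwa [mul_inv_cancel_left] at this
  have hse' := stronglyEmbedded_map hMse hR
  obtain ⟨Q, hQ⟩ := hsp (↥N ⧸ Cfsg.oddCore N) (M.map π)
    ((Nat.card_le_card_of_surjective π (QuotientGroup.mk'_surjective _)).trans_lt
      (lt_of_le_of_ne (card_le_card_group N) fun e => hN (eq_top_of_card_eq N e)))
    hse' (rankTwo_quotient hR) oddCore_quotient
  obtain ⟨t, hR1⟩ := exists_r1 hse' (rankTwo_quotient hR) oddCore_quotient hQ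
  have hQ2 : IsPGroup 2 Q := twoGroupStmt _ _ _ _ _ hR1
  obtain ⟨hQM, -, hQtrans, -⟩ := hQ
  -- a Sylow 2-subgroup of the preimage
  set P := Q.comap π with hP
  have hPM : P ≤ M := fun g hg => hback g (hQM hg)
  set f : P →* Q := (π.comp P.subtype).codRestrict Q fun g => g.2 with hf
  have hfs : Function.Surjective f := by
    rintro ⟨q, hq⟩
    obtain ⟨g, rfl⟩ := QuotientGroup.mk'_surjective (Cfsg.oddCore N) q
    exact ⟨⟨g, hq⟩, rfl⟩
  obtain ⟨T⟩ : Nonempty (Sylow 2 P) := inferInstance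
  have hTtop : (T : Subgroup P).map f = ⊤ := by
    have h := ((T.mapSurjective hfs).3 (IsPGroup.to_subgroup hQ2 ⊤) le_top).symm
    rwa [Sylow.coe_mapSurjective] at h
  refine ⟨((T : Subgroup P).map P.subtype).map N.subtype, (T.2.map _).map _, ?_, ?_, ?_⟩
  · rintro _ ⟨_, ⟨s, hs, rfl⟩, rfl⟩
    exact ⟨(s : N).2, hPM s.2⟩
  · rintro i hi hiN _ ⟨_, ⟨s, hs, rfl⟩, rfl⟩
    set s₀ : N := (s : N) with hs₀
    set i₀ : N := ⟨i, hiN⟩ with hi₀
    have hiM : i₀ ∈ M := mem_stabilizer_iff.2 hi.2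
    have hio : orderOf (π i₀) = 2 := image_involution Thompson.card_pPrimeCore_coprime
      (by rw [hi₀, orderOf_mk, hi.1])
    have hiQ : π i₀ ∈ Q ∧ π i₀ * π i₀ = 1 :=
      have h := (Suz27.R1.mem_invol_iff hR1).1 ⟨TwoFusionB.smul_one_eq_iff.2 (mem_map_of_mem π hiM),
        TwoFusionB.ne_one_of_inv hio, TwoFusionB.sq_eq_one_of_inv hio⟩
      ⟨h.1, h.2.2⟩
    have hc : Commute (π i₀) (π s₀) := hR1.sq_one_central hiQ.1 hiQ.2 s.2
    -- the conjugate is another involution at `c`, congruent modulo the odd core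
    set j : G := (s₀ : G) * i * (s₀ : G)⁻¹ with hj
    have hsc : (s₀ : G) • c = c := mem_stabilizer_iff.1 (hPM s.2)
    have hjc : j ∈ invAt H c := ⟨by rw [hj, TwoFusionB.orderOf_conj_eq, hi.1],
      by rw [hj, mul_smul, mul_smul, inv_smul_eq_iff.2 hsc.symm, hi.2, hsc]⟩
    have hmem : s₀ * i₀ * s₀⁻¹ * i₀ ∈ Cfsg.oddCore N := by
      refine (QuotientGroup.eq_one_iff _).1 ?_
      show π (s₀ * i₀ * s₀⁻¹ * i₀) = 1
      rw [map_mul, map_mul, map_mul, map_inv, ← hc.eq, mul_inv_cancel_right, hiQ.2]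
    have hsq : (s₀ * i₀ * s₀⁻¹ * i₀) ^ 2 = 1 := by
      rw [← Subtype.coe_inj]
      show (j * i) ^ 2 = 1
      rw [(commute_of_invAt hcomm hjc hi).mul_pow, pow_two, pow_two,
        TwoFusionB.sq_eq_one_of_inv hjc.1, TwoFusionB.sq_eq_one_of_inv hi.1, one_mul]
    have h1 : s₀ * i₀ * s₀⁻¹ * i₀ = 1 := by
      rw [← orderOf_eq_one_iff]
      exact Nat.Coprime.eq_one_of_dvd
        ((Nat.coprime_two_left.2 (oddCore_card_odd (G := N))).coprime_dvd_right
          (Subgroup.orderOf_dvd_natCard _ hmem)).symm (orderOf_dvd_of_pow_eq_one hsq)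
    have h2 : j = i := by
      have h : j * i = 1 := congrArg Subtype.val h1
      rw [mul_eq_one_iff_eq_inv.1 h, TwoFusionB.inv_eq_of_inv hi.1]
    show (s₀ : G) * i = i * (s₀ : G)
    exact mul_inv_eq_iff_eq_mul.1 h2
  · intro x y hx hx2 hy hy2 a b hxa hyb hac hbc
    obtain ⟨g₁, hg₁, ha⟩ := exists_move_in hC hv hv2 hw hw2 hvc hwc hne hz hz2 hx hx2 hzc hxa
    obtain ⟨g₂, hg₂, hb⟩ := exists_move_in hC hv hv2 hw hw2 hvc hwc hne hz hz2 hy hy2 hzc hyb
    have h₁ : π ⟨g₁, hg₁⟩ ∉ M.map π := fun h =>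
      hac (ha.symm.trans (mem_stabilizer_iff.1 (hback _ h)))
    have h₂ : π ⟨g₂, hg₂⟩ ∉ M.map π := fun h =>
      hbc (hb.symm.trans (mem_stabilizer_iff.1 (hback _ h)))
    obtain ⟨q, hq, hqm⟩ := hQtrans _ _ h₁ h₂
    obtain ⟨s, hs, hsq⟩ : (⟨q, hq⟩ : Q) ∈ (T : Subgroup P).map f := hTtop ▸ mem_top _
    refine ⟨((s : N) : G), ⟨_, ⟨s, hs, rfl⟩, rfl⟩, ?_⟩
    have hq' : π (s : N) = q := congrArg Subtype.val hsq
    rw [← hq', ← map_inv, ← map_mul, ← map_mul] at hqm
    have h : (g₂⁻¹ * (((s : N) : G) * g₁)) • c = c := mem_stabilizer_iff.1 (hback _ hqm)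
    rw [mul_smul, mul_smul, ha, inv_smul_eq_iff, hb] at h
    exact h

end Cfsg.Agent.BenderCons37
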