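import Cfsg.Agent.BenderCons37.Split
import Cfsg.Agent.Bender43.Main

/-!
Consumers of Bender's structure theorem: the odd core of a strongly embedded subgroup, its
solubility, the centralisers of inverted elements, and the classification.
-/

set_option autoImplicit false

namespace Cfsg.Agent.BenderCons37

open Subgroup MulAction RankOne Suz27

universe u v

variable {G : Type u} [Group G] [Finite G] {H : Subgroup G}

/-- What the hypotheses give for a group with trivial odd core. -/
theorem exists_data (hsp : BenderSplit.{u}) (h2G : TwoGroupStmt.{u, u})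
    (hH : Cfsg.IsStronglyEmbedded H) (h : RankTwo G) (hO : Cfsg.oddCore G = ⊥) :
    ∃ (Q : Subgroup G) (t : G), R1 G (G ⧸ H) (QuotientGroup.mk 1) t Q ∧ IsPGroup 2 Q ∧
      IsRegularNormal H Q := by
  obtain ⟨Q, hQ⟩ := hsp G H hH h hO
  obtain ⟨t, ht⟩ := exists_r1 hH h hO hQ
  exact ⟨Q, t, ht, h2G G _ _ t Q ht, hQ⟩

/-- The strongly embedded subgroup has trivial odd core. -/
theorem oddCore_map_eq_bot (hsp : BenderSplit.{u}) (h2G : TwoGroupStmt.{u, u})
    (hH : Cfsg.IsStronglyEmbedded H) (h : RankTwo G) (hO : Cfsg.oddCore G = ⊥) :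
    (Cfsg.oddCore H).map H.subtype = ⊥ := by
  haveI : Fact (Nat.Prime 2) := ⟨Nat.prime_two⟩
  obtain ⟨Q, t, hR, hQ2, hQH, hQn, -⟩ := exists_data hsp h2G hH h hO
  have hS := hR.setup
  haveI := hR.faithful
  set O := Cfsg.oddCore H with hOdef
  haveI : O.Normal := by rw [hOdef]; infer_instance
  haveI := hQn
  have hdis : O ⊓ Q.subgroupOf H = ⊥ := by
    rw [inf_comm]
    exact Thompson.inf_eq_bot_of_isPGroup_of_coprime
      (hQ2.of_equiv (Subgroup.subgroupOfEquivOfLe hQH).symm) Thompson.card_pPrimeCore_coprime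
  have hcomm : ∀ k ∈ O, ∀ q ∈ Q, Commute (k : G) q := by
    intro k hk q hq
    have := Subgroup.commute_of_normal_of_disjoint O (Q.subgroupOf H) inferInstance inferInstance
      (disjoint_iff.2 hdis) k ⟨q, hQH hq⟩ hk (show (⟨q, hQH hq⟩ : H).1 ∈ Q from hq)
    exact congrArg Subtype.val this.eq
  refine (Subgroup.eq_bot_iff_forall _).2 ?_
  rintro _ ⟨k, hk, rfl⟩
  refine FaithfulSMul.eq_of_smul_eq_smul (α := G ⧸ H) fun b => ?_
  rw [one_smul]
  show (k : G) • b = b
  set a : G ⧸ H := QuotientGroup.mk 1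
  have hka : (k : G) • a = a := TwoFusionB.smul_one_eq_iff.2 k.2
  rcases eq_or_ne b a with rfl | hb
  · exact hka
  have hkb : (k : G) • b ≠ a := fun e => hb (MulAction.injective (k : G) (e.trans hka.symm))
  obtain ⟨q, hq, hqb⟩ := regular hS hb hkb
  have hpow : ∀ n : ℕ, (k : G) ^ n • b = q ^ n • b := by
    intro n
    induction n with
    | zero => simp
    | succ n ih =>
      rw [pow_succ', mul_smul, ih, smul_smul, ((hcomm k hk q hq).pow_right n).eq, mul_smul,
        ← hqb, smul_smul, ← pow_succ]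
  have hqn : q ^ orderOf (k : G) = 1 := Q_fix_unique hS (pow_mem hq _) hb
    (by rw [← hpow, pow_orderOf_eq_one, one_smul])
  have hodd : Odd (orderOf (k : G)) := by
    refine (oddCore_card_odd (G := H)).of_dvd_nat ?_
    rw [Subgroup.orderOf_coe]
    exact O.orderOf_dvd_natCard hk
  obtain ⟨i, hi⟩ := hQ2 ⟨q, hq⟩
  have hq1 : q = 1 := orderOf_eq_one_iff.1 (Nat.eq_one_of_dvd_coprimes
    ((Nat.coprime_two_left.2 hodd).pow_left i)
    (orderOf_dvd_of_pow_eq_one (by simpa using congrArg Subtype.val hi))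
    (orderOf_dvd_of_pow_eq_one hqn))
  rw [← hqb, hq1, one_smul]

/-- A strongly embedded subgroup is soluble when there is a four group. -/
theorem isSolvable_of_core (hsp : BenderSplit.{u}) (h2G : TwoGroupStmt.{u, u})
    (hH : Cfsg.IsStronglyEmbedded H) (h : RankTwo G) (hO : Cfsg.oddCore G = ⊥) :
    Group.IsSolvable ↥H := by
  haveI : Fact (Nat.Prime 2) := ⟨Nat.prime_two⟩
  obtain ⟨Q, t, hR, hQ2, hQH, hQn, -⟩ := exists_data hsp h2G hH h hO
  have hS := hR.setup
  haveI := hQn
  set a : G ⧸ H := QuotientGroup.mk 1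
  have hQ2' : IsPGroup 2 (Q.subgroupOf H) := hQ2.of_equiv (Subgroup.subgroupOfEquivOfLe hQH).symm
  haveI : Group.IsSolvable (Q.subgroupOf H) := by
    haveI := hQ2'.isNilpotent
    infer_instance
  haveI : Group.IsSolvable (H ⧸ Q.subgroupOf H) := by
    refine Bender43.solvable_of_odd ?_
    let D : Subgroup H := (twoStab G a t).subgroupOf H
    let f : D →* H ⧸ Q.subgroupOf H := (QuotientGroup.mk' _).comp D.subtype
    have hsur : Function.Surjective f := by
      intro x
      obtain ⟨g, rfl⟩ := QuotientGroup.mk'_surjective _ x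
      obtain ⟨q, hq, d, hd, he⟩ := exists_decomp hS (g := (g : G))
        (TwoFusionB.smul_one_eq_iff.2 g.2)
      have hdH : d ∈ H := TwoFusionB.smul_one_eq_iff.1 (mem_inf.1 hd).1
      refine ⟨⟨⟨d, hdH⟩, hd⟩, QuotientGroup.eq.2 ?_⟩
      show ((⟨d, hdH⟩ : H)⁻¹ * g) ∈ Q.subgroupOf H
      rw [mem_subgroupOf]
      show d⁻¹ * (g : G) ∈ Q
      rw [he, ← mul_assoc]
      have := hS.conj_mem d⁻¹ (inv_mem (mem_inf.1 hd).1) q hq
      simpa using this
    refine (hS.odd_card.of_dvd_nat ((Subgroup.card_dvd_of_surjective f hsur).trans ?_))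
    rw [← Subgroup.card_map_of_injective H.subtype_injective]
    refine Subgroup.card_dvd_of_le ?_
    rintro _ ⟨x, hx, rfl⟩
    exact hx
  exact solvable_of_ker_le_range (Q.subgroupOf H).subtype (QuotientGroup.mk' (Q.subgroupOf H))
    (by rw [QuotientGroup.ker_mk', Subgroup.range_subtype])

/-- A strongly embedded subgroup is soluble when there is a four group. -/
theorem isSolvable_of_rankTwo (hsp : BenderSplit.{u}) (h2G : TwoGroupStmt.{u, u})
    (hH : Cfsg.IsStronglyEmbedded H) (h : RankTwo G) : Group.IsSolvable ↥H := by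
  set O := Cfsg.oddCore G
  set π := QuotientGroup.mk' O
  haveI : Group.IsSolvable ↥O := Bender43.solvable_of_odd oddCore_card_odd
  haveI := isSolvable_of_core hsp h2G (stronglyEmbedded_map hH h) (rankTwo_quotient h)
    oddCore_quotient
  refine solvable_of_ker_le_range (Subgroup.inclusion (oddCore_le hH h)) (π.subgroupMap H) ?_
  intro x hx
  refine ⟨⟨x, ?_⟩, Subtype.ext rfl⟩
  exact (QuotientGroup.eq_one_iff (x : G)).1 (congrArg Subtype.val hx)

/-- **The odd core of a strongly embedded subgroup lies in the odd core of the group.** -/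
theorem benderCore (hsp : BenderSplit.{u}) (h2G : TwoGroupStmt.{u, u})
    (hH : Cfsg.IsStronglyEmbedded H) :
    (Cfsg.oddCore ↥H).map H.subtype ≤ Cfsg.oddCore G := by
  set O := Cfsg.oddCore G with hOG
  haveI : O.Normal := by rw [hOG]; infer_instance
  set π := QuotientGroup.mk' O
  set K := Cfsg.oddCore ↥H with hK
  haveI : K.Normal := by rw [hK]; infer_instance
  have hKodd : Odd (Nat.card (K.map H.subtype)) := by
    rw [Subgroup.card_map_of_injective H.subtype_injective]
    exact oddCore_card_odd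
  by_cases h : RankTwo G
  · have hmap : K.map (π.subgroupMap H) ≤ Cfsg.oddCore ↥(H.map π) :=
      Thompson.map_pPrimeCore_le_of_surjective _ (π.subgroupMap_surjective H)
    have h0 := oddCore_map_eq_bot hsp h2G (stronglyEmbedded_map hH h) (rankTwo_quotient h)
      oddCore_quotient
    rintro _ ⟨k, hk, rfl⟩
    rw [← QuotientGroup.eq_one_iff]
    have h1 : π (k : G) ∈ (Cfsg.oddCore ↥(H.map π)).map (H.map π).subtype :=
      ⟨π.subgroupMap H k, hmap (mem_map_of_mem _ hk), rfl⟩
    rwa [h0, mem_bot] at h1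
  · have hsup : O ⊔ H = ⊤ :=
      (Bender43.rank_one_case hH fun x y hx hy hxy => no_four_of_not_rankTwo h hx hy hxy).2
    set N := O ⊔ K.map H.subtype with hN
    have hHN : H ≤ normalizer (K.map H.subtype : Set G) := Bender43.le_normalizer_map_subtype K
    haveI hNn : N.Normal := by
      rw [← normalizer_eq_top_iff, eq_top_iff, ← hsup]
      refine sup_le (le_trans le_sup_left Subgroup.le_normalizer) fun g hg => ?_
      rw [mem_normalizer_iff_map_conj_eq, hN, Subgroup.map_sup,
        mem_normalizer_iff_map_conj_eq.1 (Subgroup.normalizer_eq_top (H := O) ▸ mem_top g),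
        mem_normalizer_iff_map_conj_eq.1 (hHN hg)]
    have hodd : Odd (Nat.card N) :=
      (oddCore_card_odd.mul hKodd).of_dvd_nat (Thompson.card_sup_dvd_mul (K.map H.subtype) O |>
        fun h => by rwa [sup_comm, mul_comm] at h)
    exact le_sup_right.trans (Thompson.le_pPrimeCore hNn (Nat.coprime_two_right.2 hodd))

/-- Two involutions, one inverting `j ≠ 1` of odd order and one centralising it, commute with a
third involution. -/
theorem exists_common_involution {u s j : G} (hu : orderOf u = 2) (hs : orderOf s = 2)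
    (hj : Odd (orderOf j)) (hj1 : j ≠ 1) (hinv : u * j * u⁻¹ = j⁻¹) (hc : s * j = j * s) :
    ∃ c : G, orderOf c = 2 ∧ Commute c u ∧ Commute c s := by
  have hne : u * j * u⁻¹ ≠ j := by
    rw [hinv]
    intro e
    have h2 : j ^ 2 = 1 := by rw [pow_two, ← inv_eq_iff_mul_eq_one, e]
    exact hj1 (orderOf_eq_one_iff.1 (Nat.eq_one_of_dvd_coprimes (Nat.coprime_two_right.2 hj)
      dvd_rfl (orderOf_dvd_of_pow_eq_one h2)))
  have hsN : s ∈ normalizer ((zpowers j : Subgroup G) : Set G) := by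
    rw [mem_normalizer_iff_map_conj_eq, MonoidHom.map_zpowers]
    congr 1
    show s * j * s⁻¹ = j
    rw [hc, mul_inv_cancel_right]
  have huN : u ∈ normalizer ((zpowers j : Subgroup G) : Set G) := by
    rw [mem_normalizer_iff_map_conj_eq, MonoidHom.map_zpowers]
    show zpowers (u * j * u⁻¹) = zpowers j
    rw [hinv, zpowers_inv]
  rcases Nat.even_or_odd (orderOf (s * u)) with hev | hodd
  · obtain ⟨i, hi⟩ := hev.two_dvd
    have hipos : 0 < i := by
      have := orderOf_pos (s * u)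
      omega
    set r := s * u with hr
    have hc2 : orderOf (r ^ i) = 2 := by
      rw [orderOf_pow' r hipos.ne', hi, Nat.gcd_eq_right (dvd_mul_left i 2),
        Nat.mul_div_cancel _ hipos]
    have hcinv : (r ^ i)⁻¹ = r ^ i := TwoFusionB.inv_eq_of_inv hc2
    have hsr : s * r * s⁻¹ = r⁻¹ := by
      rw [hr, mul_inv_rev, TwoFusionB.inv_eq_of_inv hs, TwoFusionB.inv_eq_of_inv hu,
        ← mul_assoc s s u, TwoFusionB.sq_eq_one_of_inv hs, one_mul]
    have hur : u * r * u⁻¹ = r⁻¹ := by
      rw [hr, mul_inv_rev, TwoFusionB.inv_eq_of_inv hs, TwoFusionB.inv_eq_of_inv hu, mul_assoc,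
        mul_assoc, TwoFusionB.sq_eq_one_of_inv hu, mul_one]
    have key : ∀ z : G, z * r * z⁻¹ = r⁻¹ → Commute (r ^ i) z := fun z hz => by
      have h : z * r ^ i * z⁻¹ = r ^ i := by rw [← conj_pow, hz, inv_pow, hcinv]
      exact (mul_inv_eq_iff_eq_mul.1 h).symm
    exact ⟨r ^ i, hc2, key u hur, key s hsr⟩
  · exfalso
    obtain ⟨w, hw, hwe⟩ := RankOne.dihedral_conj (TwoFusionB.sq_eq_one_of_inv hs)
      (TwoFusionB.sq_eq_one_of_inv hu) hodd
    have hwN : w ∈ normalizer ((zpowers j : Subgroup G) : Set G) :=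
      zpowers_le.2 (mul_mem hsN huN) hw
    obtain ⟨m, hm⟩ := mem_zpowers_iff.1 ((mem_normalizer_iff''.1 hwN j).1 (mem_zpowers j))
    -- `u` centralises `w * (w⁻¹ j w) * w⁻¹ = j`
    refine hne ?_
    have hsm : Commute s (w⁻¹ * j * w) := hm ▸ (show Commute s j from hc).zpow_right m
    calc u * j * u⁻¹ = (w * s * w⁻¹) * j * (w * s * w⁻¹)⁻¹ := by rw [hwe]
      _ = w * (s * (w⁻¹ * j * w) * s⁻¹) * w⁻¹ := by group
      _ = j := by rw [hsm.eq, mul_inv_cancel_right]; group

/-- **An element inverted by an involution outside `H` has a centraliser of odd order.** -/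
theorem odd_centralizer (hsp : BenderSplit.{u}) (h2G : TwoGroupStmt.{u, u})
    (hH : Cfsg.IsStronglyEmbedded H) (hcore : H.normalCore = ⊥) (u : G) (hu : orderOf u = 2)
    (huH : u ∉ H) (j : G) (hj : j ∈ H ⊓ H.map (MulAut.conj u).toMonoidHom) (hj1 : j ≠ 1)
    (hinv : u * j * u⁻¹ = j⁻¹) : Odd (Nat.card (centralizer ({j} : Set G))) := by
  haveI : Fact (Nat.Prime 2) := ⟨Nat.prime_two⟩
  have hjodd : Odd (orderOf j) := (hH.2.2 u huH).of_dvd_nat (orderOf_dvd_natCard _ hj)
  rw [← Nat.not_even_iff_odd]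
  intro hev
  obtain ⟨s, hs, hs2⟩ := Involution.exists_involution_of_even hev
  have hsj : s * j = j * s := mem_centralizer_singleton_iff.1 hs
  obtain ⟨c, hc, hcu, hcs⟩ := exists_common_involution hu hs2 hjodd hj1 hinv hsj
  have hne : u ≠ s := by
    rintro rfl
    rw [hsj, mul_inv_cancel_right] at hinv
    exact hj1 (orderOf_eq_one_iff.1 (Nat.eq_one_of_dvd_coprimes (Nat.coprime_two_right.2 hjodd)
      dvd_rfl (orderOf_dvd_of_pow_eq_one (by rw [pow_two, ← eq_inv_iff_mul_eq_one]; exact hinv))))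
  by_cases h : RankTwo G
  swap
  · exact hne ((no_four_of_not_rankTwo h hc hu hcu).symm.trans (no_four_of_not_rankTwo h hc hs2 hcs))
  have hO : Cfsg.oddCore G = ⊥ :=
    le_bot_iff.1 (hcore ▸ Subgroup.normal_le_normalCore.2 (oddCore_le hH h))
  obtain ⟨Q, t, hR, hQ2, hQH, hQn, -⟩ := exists_data hsp h2G hH h hO
  have hS := hR.setup
  -- all three involutions fix the same coset
  obtain ⟨p, hp⟩ := TwoFusionB.exists_fix hH hc
  have hfix : ∀ z : G, Commute c z → z • p = p := fun z hz =>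
    (TwoFusionB.fix_unique hH hc hp (by rw [smul_smul, hz.eq, ← smul_smul, hp])).symm
  obtain ⟨g, rfl⟩ := QuotientGroup.mk_surjective p
  set e := MulAut.conj g⁻¹ with he
  have hmem : ∀ z : G, Commute c z → e z ∈ H := fun z hz => by
    simpa [he] using TwoFusionB.smul_mk_eq_iff.1 (hfix z hz)
  have hjH : e j ∈ H := by
    -- `s` fixes only that coset, so `j` does too
    have h1 := TwoFusionB.fix_unique hH hs2
      (show s • (j • (QuotientGroup.mk g : G ⧸ H)) = j • QuotientGroup.mk g by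
        rw [smul_smul, hsj, ← smul_smul, hfix s hcs]) (hfix s hcs)
    simpa [he] using TwoFusionB.smul_mk_eq_iff.1 h1
  have hu' : e u ∈ Q := by
    refine invol_mem_Q hS ⟨?_, ?_⟩ (TwoFusionB.smul_one_eq_iff.2 (hmem u hcu))
    · simpa [map_eq_one_iff _ e.injective] using TwoFusionB.ne_one_of_inv hu
    · rw [← map_mul, TwoFusionB.sq_eq_one_of_inv hu, map_one]
  have hcq : e j * (e u)⁻¹ * (e j)⁻¹ ∈ Q :=
    hS.conj_mem _ (TwoFusionB.smul_one_eq_iff.2 hjH) _ (inv_mem hu')
  have hj2 : e (j⁻¹ * j⁻¹) ∈ Q := by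
    have := mul_mem hu' hcq
    rw [← map_inv, ← map_inv, ← map_mul, ← map_mul, ← map_mul] at this
    rwa [show u * (j * u⁻¹ * j⁻¹) = u * j * u⁻¹ * j⁻¹ by group, hinv] at this
  obtain ⟨i, hi⟩ := hQ2 ⟨_, hj2⟩
  have h1 : (j⁻¹ * j⁻¹) ^ 2 ^ i = 1 := e.injective (by
    rw [map_pow, map_one]; exact congrArg Subtype.val hi)
  rw [← pow_two, ← pow_mul, inv_pow, inv_eq_one, ← pow_succ'] at h1
  exact hj1 (orderOf_eq_one_iff.1 (Nat.eq_one_of_dvd_coprimes
    ((Nat.coprime_two_right.2 hjodd).pow_right (i + 1)) dvd_rfl (orderOf_dvd_of_pow_eq_one h1)))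

end Cfsg.Agent.BenderCons37
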