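import Cfsg.Agent.Bender85.Defs
import Cfsg.Agent.BenderCons37.Glue
import Cfsg.Agent.BenderCons37.Main

/-!
The standing hypotheses of the proof of `BenderSplit` from its induction hypothesis.
-/

set_option autoImplicit false

namespace Cfsg.Agent.BenderCons37

open Subgroup MulAction RankOne Suz27

universe u

variable {G : Type u} [Group G] [Finite G] {H : Subgroup G}

/-- Given a regular normal subgroup, the odd core of `H` is trivial. -/
theorem oddCore_map_eq_bot_of_regular (hH : Cfsg.IsStronglyEmbedded H) (h : RankTwo G)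
    (hO : Cfsg.oddCore G = ⊥) {Q : Subgroup G} (hQ : IsRegularNormal H Q) :
    (Cfsg.oddCore H).map H.subtype = ⊥ := by
  haveI : Fact (Nat.Prime 2) := ⟨Nat.prime_two⟩
  obtain ⟨t, hR⟩ := exists_r1 hH h hO hQ
  have hQ2 : IsPGroup 2 Q := twoGroupStmt _ _ _ _ _ hR
  obtain ⟨hQH, hQn, -⟩ := hQ
  have hS := hR.setup
  haveI := hR.faithful
  set O := Cfsg.oddCore H with hOdef
  haveI : O.Normal := by rw [hOdef]; infer_instance
  haveI := hQn
  have hdis : O ⊓ Q.subgroupOf H = ⊥ := by
    rw [inf_comm]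
    exact Thompson.inf_eq_bot_of_isPGroup_of_coprime
      (hQ2.of_equiv (Subgroup.subgroupOfEquivOfLe hQH).symm) Thompson.card_pPrimeCore_coprime
  have hcomm : ∀ k ∈ O, ∀ q ∈ Q, Commute (k : G) q := by
    intro k hk q hq
    have := Subgroup.commute_of_normal_of_disjoint O (Q.subgroupOf H) inferInstance inferInstance
      (disjoint_iff.2 hdis) k ⟨q, hQH hq⟩ hk (show (⟨q, hQH hq⟩ : H).1 ∈ Q from hq)
    exact congrArg Subtype.val this.eq
  refine (Subgroup.eq_bot_iff_forall _).2 ?_
  rintro _ ⟨k, hk, rfl⟩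
  refine FaithfulSMul.eq_of_smul_eq_smul (α := G ⧸ H) fun b => ?_
  rw [one_smul]
  show (k : G) • b = b
  set a : G ⧸ H := QuotientGroup.mk 1
  have hka : (k : G) • a = a := TwoFusionB.smul_one_eq_iff.2 k.2
  rcases eq_or_ne b a with rfl | hb
  · exact hka
  have hkb : (k : G) • b ≠ a := fun e => hb (MulAction.injective (k : G) (e.trans hka.symm))
  obtain ⟨q, hq, hqb⟩ := regular hS hb hkb
  have hpow : ∀ n : ℕ, (k : G) ^ n • b = q ^ n • b := by
    intro n
    induction n with
    | zero => simp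
    | succ n ih =>
      rw [pow_succ', mul_smul, ih, smul_smul, ((hcomm k hk q hq).pow_right n).eq, mul_smul,
        ← hqb, smul_smul, ← pow_succ]
  have hqn : q ^ orderOf (k : G) = 1 := Q_fix_unique hS (pow_mem hq _) hb
    (by rw [← hpow, pow_orderOf_eq_one, one_smul])
  have hodd : Odd (orderOf (k : G)) := by
    refine (oddCore_card_odd (G := H)).of_dvd_nat ?_
    rw [Subgroup.orderOf_coe]
    exact O.orderOf_dvd_natCard hk
  obtain ⟨i, hi⟩ := hQ2 ⟨q, hq⟩
  have hq1 : q = 1 := orderOf_eq_one_iff.1 (Nat.eq_one_of_dvd_coprimes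
    ((Nat.coprime_two_left.2 hodd).pow_left i)
    (orderOf_dvd_of_pow_eq_one (by simpa using congrArg Subtype.val hi))
    (orderOf_dvd_of_pow_eq_one hqn))
  rw [← hqb, hq1, one_smul]

/-- The induction hypothesis gives the conclusion for smaller groups. -/
theorem below_of_split {n : ℕ} (hb : BenderSplitBelow.{u} n) : Bender85.Below.{u} n := by
  intro L _ _ hn M hM h2 hO
  obtain ⟨Q, hQ⟩ := hb L M hn hM h2 hO
  exact ⟨fun x hx y hy hxo hyo => invol_commute hM h2 hO hQ hx hy hxo hyo,
    oddCore_map_eq_bot_of_regular hM h2 hO hQ⟩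

/-- The standing hypotheses in the induction step. -/
theorem ctx_of_split (hb : BenderSplitBelow.{u} (Nat.card G)) (hH : Cfsg.IsStronglyEmbedded H)
    (h2 : RankTwo G) (hO : Cfsg.oddCore G = ⊥) : Bender85.Ctx H :=
  ⟨inferInstance, hH, h2, hO, below_of_split hb⟩

end Cfsg.Agent.BenderCons37
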