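import Cfsg.Agent.TwoFusionB.StronglyEmbedded
import Cfsg.Agent.Lib.Involution.StronglyEmbedded
import Cfsg.Agent.Lib.Thompson.Cores
import Cfsg.Agent.FGS77.AmbivalentSolvable

/-!
Strongly embedded subgroups: the odd core, the quotient by it, and the kernel of the coset action,
when there are two distinct commuting involutions.
-/

set_option autoImplicit false

namespace Cfsg.Agent.BenderCons37

open Subgroup MulAction

universe u

/-- Two distinct commuting involutions. -/
def RankTwo (G : Type*) [Group G] : Prop :=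
  ∃ x y : G, x ≠ 1 ∧ y ≠ 1 ∧ x ≠ y ∧ x * x = 1 ∧ y * y = 1 ∧ x * y = y * x

variable {G : Type*} [Group G]

theorem orderOf_eq_two {x : G} (hx : x ≠ 1) (hxx : x * x = 1) : orderOf x = 2 := by
  haveI : Fact (Nat.Prime 2) := ⟨Nat.prime_two⟩
  exact orderOf_eq_prime (by rw [pow_two, hxx]) hx

theorem no_four_of_not_rankTwo (h : ¬ RankTwo G) {x y : G} (hx : orderOf x = 2)
    (hy : orderOf y = 2) (hxy : Commute x y) : x = y := by
  by_contra hne
  exact h ⟨x, y, TwoFusionB.ne_one_of_inv hx, TwoFusionB.ne_one_of_inv hy, hne,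
    TwoFusionB.sq_eq_one_of_inv hx, TwoFusionB.sq_eq_one_of_inv hy, hxy.eq⟩

variable [Finite G] {H : Subgroup G}

/-- A four group may be chosen inside `H`. -/
theorem exists_four_mem (hH : Cfsg.IsStronglyEmbedded H) (h : RankTwo G) :
    ∃ x ∈ H, ∃ y ∈ H, orderOf x = 2 ∧ orderOf y = 2 ∧ x ≠ y ∧ Commute x y := by
  obtain ⟨x, y, hx, hy, hne, hxx, hyy, hxy⟩ := h
  have hx2 := orderOf_eq_two hx hxx
  have hy2 := orderOf_eq_two hy hyy
  obtain ⟨p, hp⟩ := TwoFusionB.exists_fix hH hx2
  have hp' : y • p = p := (TwoFusionB.fix_unique hH hx2 hp (by rw [smul_smul, hxy, ← smul_smul, hp])).symm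
  obtain ⟨g, rfl⟩ := QuotientGroup.mk_surjective p
  have ho : ∀ z : G, orderOf (g⁻¹ * z * g) = orderOf z := fun z => by
    simpa using TwoFusionB.orderOf_conj_eq g⁻¹ z
  refine ⟨g⁻¹ * x * g, TwoFusionB.smul_mk_eq_iff.1 hp, g⁻¹ * y * g,
    TwoFusionB.smul_mk_eq_iff.1 hp', by rw [ho, hx2], by rw [ho, hy2], fun e => hne ?_, ?_⟩
  · simpa using e
  · show g⁻¹ * x * g * (g⁻¹ * y * g) = g⁻¹ * y * g * (g⁻¹ * x * g)
    calc g⁻¹ * x * g * (g⁻¹ * y * g) = g⁻¹ * (x * y) * g := by group
      _ = g⁻¹ * (y * x) * g := by rw [hxy]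
      _ = _ := by group

/-- A subgroup not inside `H` inherits a strongly embedded subgroup. -/
theorem stronglyEmbedded_subgroupOf (hH : Cfsg.IsStronglyEmbedded H) {L : Subgroup G}
    (hL : ¬ L ≤ H) {t : G} (htL : t ∈ L) (htH : t ∈ H) (ht : orderOf t = 2) :
    Cfsg.IsStronglyEmbedded (H.subgroupOf L) := by
  rw [Involution.stronglyEmbedded_iff]
  refine ⟨fun h => hL (Subgroup.subgroupOf_eq_top.1 h),
    Involution.even_card_of_involution (t := (⟨t, htL⟩ : L)) htH (by rw [orderOf_mk, ht]),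
    fun g s hs hs2 hgs => ?_⟩
  exact ((Involution.stronglyEmbedded_iff.1 hH).2.2 (g : G) (s : G) hs
    (by rw [orderOf_coe, hs2]) hgs : (g : G) ∈ H)

omit [Finite G] in
theorem oddCore_card_odd [Finite G] : Odd (Nat.card (Cfsg.oddCore G)) :=
  Nat.coprime_two_right.1 Thompson.card_pPrimeCore_coprime

/-- With two commuting involutions the odd core lies in `H`. -/
theorem oddCore_le (hH : Cfsg.IsStronglyEmbedded H) (h : RankTwo G) : Cfsg.oddCore G ≤ H := by
  obtain ⟨x, hxH, y, hyH, hx, hy, hne, hxy⟩ := exists_four_mem hH h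
  set O := Cfsg.oddCore G with hO
  haveI : O.Normal := by rw [hO]; infer_instance
  set L := O ⊔ closure ({x, y} : Set G) with hL
  by_contra hle
  have hxL : x ∈ L := mem_sup_right (subset_closure (Or.inl rfl))
  have hyL : y ∈ L := mem_sup_right (subset_closure (Or.inr rfl))
  obtain ⟨l, hl⟩ := isConj_iff.1 (TwoFusionB.isConj_involutions
    (stronglyEmbedded_subgroupOf hH (fun h' => hle (le_sup_left.trans h')) hxL hxH hx)
    (a := (⟨x, hxL⟩ : L)) (b := ⟨y, hyL⟩) (by rw [orderOf_mk, hx]) (by rw [orderOf_mk, hy]))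
  have hcl : (l : G) * x * (l : G)⁻¹ = y := congrArg Subtype.val hl
  -- modulo `O` the element `l` commutes with `x`
  set π := QuotientGroup.mk' O
  have hcomm : Commute (π l) (π x) := by
    have hlL : π l ∈ closure (π '' ({x, y} : Set G)) := by
      have := mem_map_of_mem π l.2
      rwa [Subgroup.map_sup, QuotientGroup.map_mk'_self, bot_sup_eq, MonoidHom.map_closure]
        at this
    have hle' : closure (π '' ({x, y} : Set G)) ≤ centralizer ({π x} : Set (G ⧸ O)) := by
      rw [closure_le]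
      rintro _ ⟨z, hz, rfl⟩
      rw [SetLike.mem_coe, mem_centralizer_singleton_iff]
      rcases hz with rfl | rfl
      · rfl
      · rw [← map_mul, ← map_mul, hxy.eq]
    exact mem_centralizer_singleton_iff.1 (hle' hlL)
  have hxy' : π x = π y := by
    rw [← hcl, map_mul, map_mul, map_inv, hcomm.eq, mul_inv_cancel_right]
  have hmem : x⁻¹ * y ∈ O := QuotientGroup.eq.1 hxy'
  have h2 : (x⁻¹ * y) * (x⁻¹ * y) = 1 := by
    rw [TwoFusionB.inv_eq_of_inv hx]
    calc x * y * (x * y) = x * (y * x) * y := by group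
      _ = x * (x * y) * y := by rw [hxy.eq]
      _ = (x * x) * (y * y) := by group
      _ = 1 := by rw [TwoFusionB.sq_eq_one_of_inv hx, TwoFusionB.sq_eq_one_of_inv hy, one_mul]
  refine Nat.not_even_iff_odd.2 oddCore_card_odd (TwoFusionB.even_card_of_mem_inv
    (orderOf_eq_two (fun e => hne ?_) h2) hmem)
  exact inv_mul_eq_one.1 e

/-- The image of `H` modulo the odd core is strongly embedded. -/
theorem stronglyEmbedded_map (hH : Cfsg.IsStronglyEmbedded H) (h : RankTwo G) :
    Cfsg.IsStronglyEmbedded (H.map (QuotientGroup.mk' (Cfsg.oddCore G))) := by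
  set O := Cfsg.oddCore G
  set π := QuotientGroup.mk' O
  have hOH : O ≤ H := oddCore_le hH h
  have hback : ∀ g : G, π g ∈ H.map π → g ∈ H := by
    rintro g ⟨k, hk, hkg⟩
    have := mul_mem hk (hOH (QuotientGroup.eq.1 hkg))
    rwa [mul_inv_cancel_left] at this
  rw [Involution.stronglyEmbedded_iff]
  obtain ⟨htop, -, hfus⟩ := Involution.stronglyEmbedded_iff.1 hH
  refine ⟨fun e => htop (eq_top_iff.2 fun g _ => hback g (e ▸ mem_top _)), ?_, ?_⟩
  · obtain ⟨t, htH, ht⟩ := TwoFusionB.exists_inv_mem hH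
    refine Involution.even_card_of_involution (mem_map_of_mem π htH)
      (orderOf_eq_two (fun e => ?_) ?_)
    · exact Nat.not_even_iff_odd.2 oddCore_card_odd
        (TwoFusionB.even_card_of_mem_inv ht ((QuotientGroup.eq_one_iff t).1 e))
    · rw [← map_mul, TwoFusionB.sq_eq_one_of_inv ht, map_one]
  · intro a s hs hs2 has
    obtain ⟨g, rfl⟩ := QuotientGroup.mk'_surjective O a
    obtain ⟨s', hs', rfl⟩ := FGS77.exists_involution_lift O Thompson.card_pPrimeCore_coprime hs2
    rw [← map_inv, ← map_mul, ← map_mul] at has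
    exact mem_map_of_mem π (hfus g s' (hback s' hs) hs' (hback _ has))

omit [Finite G] in
/-- Two commuting involutions survive modulo an odd normal subgroup. -/
theorem rankTwo_quotient [Finite G] (h : RankTwo G) : RankTwo (G ⧸ Cfsg.oddCore G) := by
  obtain ⟨x, y, hx, hy, hne, hxx, hyy, hxy⟩ := h
  set π := QuotientGroup.mk' (Cfsg.oddCore G)
  have hinv : ∀ z : G, z ≠ 1 → z * z = 1 → π z ≠ 1 := fun z hz hzz e =>
    Nat.not_even_iff_odd.2 oddCore_card_odd
      (TwoFusionB.even_card_of_mem_inv (orderOf_eq_two hz hzz) ((QuotientGroup.eq_one_iff z).1 e))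
  refine ⟨π x, π y, hinv x hx hxx, hinv y hy hyy, fun e => hinv (x * y) (fun e' => hne ?_) ?_ ?_,
    by rw [← map_mul, hxx, map_one], by rw [← map_mul, hyy, map_one],
    by rw [← map_mul, ← map_mul, hxy]⟩
  · rw [mul_eq_one_iff_eq_inv] at e'
    rw [e', inv_eq_of_mul_eq_one_right hyy]
  · calc x * y * (x * y) = x * (y * x) * y := by group
      _ = x * (x * y) * y := by rw [hxy]
      _ = (x * x) * (y * y) := by group
      _ = 1 := by rw [hxx, hyy, one_mul]
  · rw [map_mul, e, ← map_mul, hyy, map_one]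

theorem oddCore_quotient : Cfsg.oddCore (G ⧸ Cfsg.oddCore G) = ⊥ :=
  Thompson.pPrimeCore_quotient_pPrimeCore

/-- The kernel of the action on the cosets is trivial when the odd core is. -/
theorem normalCore_eq_bot (hH : Cfsg.IsStronglyEmbedded H) (hO : Cfsg.oddCore G = ⊥) :
    H.normalCore = ⊥ := by
  haveI : Fact (Nat.Prime 2) := ⟨Nat.prime_two⟩
  have hodd : Odd (Nat.card H.normalCore) := by
    rw [← Nat.not_even_iff_odd]
    intro he
    obtain ⟨t, ht, ht2⟩ := Involution.exists_involution_of_even he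
    refine hH.1 (eq_top_iff.2 fun g _ => (Involution.stronglyEmbedded_iff.1 hH).2.2 g t
      (normalCore_le H ht) ht2 (normalCore_le H (H.normalCore_normal.conj_mem t ht g)))
  rw [eq_bot_iff, ← hO]
  exact Thompson.le_pPrimeCore H.normalCore_normal (Nat.coprime_two_right.2 hodd)

end Cfsg.Agent.BenderCons37
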