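import Cfsg.Agent.BenderCons37.Main
import Cfsg.Agent.Suz27.SimpleCase
import Cfsg.Agent.Lib.LinearGroup.PSLTools
import Cfsg.Agent.LocalEven61.StronglyEmbedded
import Cfsg.Prelude.Def_Amalgam

/-!
The classification of groups with a strongly embedded subgroup from Bender's structure theorem, in
the forms of S0222, S2798 and S2903.
-/

set_option autoImplicit false

namespace Cfsg.Agent.BenderCons37

open Subgroup MulAction RankOne Suz27

universe u

variable {G : Type u} [Group G] [Finite G] {H : Subgroup G}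

/-- The subgroup generated by the 2-elements of a group with a strongly embedded subgroup and
trivial odd core is of rank one type. -/
theorem isR1Type_pElementClosure (hsp : BenderSplit.{u}) (hs : ShapeStmt.{u, u})
    (hu : UniqStmt.{u, u}) (hH : Cfsg.IsStronglyEmbedded H) (h : RankTwo G)
    (hO : Cfsg.oddCore G = ⊥) : IsR1Type ↥(Cfsg.pElementClosure 2 (⊤ : Subgroup G)) := by
  haveI : Fact (Nat.Prime 2) := ⟨Nat.prime_two⟩
  obtain ⟨Q, hQ⟩ := hsp G H hH h hO
  obtain ⟨t, hR⟩ := exists_r1 hH h hO hQ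
  obtain ⟨L, htL, hLn, hLo, -, hRL, hGL⟩ := exists_gen_subgroup hR
  haveI := hLn
  set E := Cfsg.pElementClosure 2 (⊤ : Subgroup G) with hE
  have hEL : E ≤ L := by
    refine (closure_le _).2 ?_
    rintro x ⟨-, k, hk⟩
    rw [SetLike.mem_coe, ← QuotientGroup.eq_one_iff, ← orderOf_eq_one_iff]
    have h1 : orderOf (x : G ⧸ L) ∣ 2 ^ k := hk ▸ orderOf_map_dvd (QuotientGroup.mk' L) x
    have h2 : orderOf (x : G ⧸ L) ∣ L.index := orderOf_dvd_natCard _
    exact Nat.eq_one_of_dvd_coprimes ((Nat.coprime_two_left.2 hLo).pow_left k) h1 h2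
  haveI hEn : E.Normal := by
    refine ⟨fun x hx g => ?_⟩
    have : E ≤ E.comap (MulAut.conj g).toMonoidHom :=
      (closure_le _).2 fun y hy => subset_closure
        ⟨mem_top _, hy.2.imp fun k hk =>
          (orderOf_injective (MulAut.conj g).toMonoidHom (MulAut.conj g).injective y).trans hk⟩
    exact this hx
  haveI := isSimpleGroup_of_gen hRL hGL
  have htE : t ∈ E := subset_closure ⟨mem_top _, 1, by
    rw [orderOf_eq_two hR.setup.ne_one hR.setup.mul_self, pow_one]⟩
  have hLE : L ≤ E := by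
    rcases (inferInstance : (E.subgroupOf L).Normal).eq_bot_or_eq_top with h' | h'
    · exfalso
      have : (⟨t, htL⟩ : L) ∈ E.subgroupOf L := htE
      rw [h', mem_bot] at this
      exact hR.setup.ne_one (congrArg Subtype.val this)
    · exact subgroupOf_eq_top.1 h'
  exact (isR1Type_of_gen hs hu hRL hGL).congr (MulEquiv.subgroupCongr (le_antisymm hEL hLE).symm)

/-- The simple groups with a strongly embedded subgroup. -/
theorem isR1Type_of_simple_se [IsSimpleGroup G] (hsp : BenderSplit.{u}) (hs : ShapeStmt.{u, u})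
    (hu : UniqStmt.{u, u}) (hH : Cfsg.IsStronglyEmbedded H) : IsR1Type G := by
  have hO : Cfsg.oddCore G = ⊥ := by
    rcases (inferInstance : (Cfsg.oddCore G).Normal).eq_bot_or_eq_top with h | h
    · exact h
    · exfalso
      obtain ⟨x, -, hx⟩ := TwoFusionB.exists_inv_mem hH
      exact Nat.not_even_iff_odd.2 (oddCore_card_odd (G := G))
        (TwoFusionB.even_card_of_mem_inv hx (h ▸ mem_top x))
  have h : RankTwo G := by
    by_contra hno
    have := (Bender43.rank_one_case hH fun x y hx hy hxy => no_four_of_not_rankTwo hno hx hy hxy).2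
    rw [hO, bot_sup_eq] at this
    exact hH.1 this
  obtain ⟨Q, hQ⟩ := hsp G H hH h hO
  obtain ⟨t, hR⟩ := exists_r1 hH h hO hQ
  exact Suz27.isR1Type_of_simple hs hu hR

/-- The form of S0222. -/
theorem s0222_of (hsp : BenderSplit.{u}) (hs : ShapeStmt.{u, u}) (hu : UniqStmt.{u, u})
    [IsSimpleGroup G] (hH : Cfsg.IsStronglyEmbedded H) :
    (∃ (F : Type) (_ : Field F) (_ : Fintype F), CharP F 2 ∧ 4 ≤ Fintype.card F ∧
        Nonempty (G ≃* Matrix.ProjectiveSpecialLinearGroup (Fin 2) F)) ∨ Cfsg.IsSuzuki G ∨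
      (∃ (F : Type) (_ : Field F) (_ : Fintype F) (q : ℕ), Fintype.card F = q ^ 2 ∧ Even q ∧ 4 ≤ q ∧
        Nonempty (G ≃* Cfsg.PSU 3 F q)) :=
  bender_form (isR1Type_of_simple_se hsp hs hu hH)

theorem stronglyEmbedded_of_spe (hX : Cfsg.IsStronglyPEmbedded 2 H) :
    Cfsg.IsStronglyEmbedded H := by
  haveI : Fact (Nat.Prime 2) := ⟨Nat.prime_two⟩
  refine ⟨hX.2.1, even_iff_two_dvd.2 (LocalEven61.dvd_card_of_spe hX), fun g hg => ?_⟩
  rw [← Nat.not_even_iff_odd, even_iff_two_dvd]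
  exact LocalEven61.conjInterCoprime_of_normalizersLE (LocalEven61.normalizersLE_of_spe hX) g hg

omit [Finite G] in
theorem rankTwo_of_pRankAtLeast (h : Cfsg.PRankAtLeast 2 2 G) : RankTwo G := by
  obtain ⟨A, hA, hA2, hcard⟩ := h
  haveI : Finite A := Nat.finite_of_card_ne_zero (by omega)
  haveI := hA
  have hnb : A ≠ ⊥ := fun e => by
    rw [e, Subgroup.card_bot] at hcard
    norm_num at hcard
  obtain ⟨x, hx, hx1⟩ := (Subgroup.bot_or_exists_ne_one A).resolve_left hnb
  obtain ⟨y, hy, hy'⟩ : ∃ y ∈ A, y ∉ ({1, x} : Set G) := by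
    by_contra hno
    push Not at hno
    have h1 : Nat.card A ≤ Nat.card ({1, x} : Set G) :=
      Nat.card_mono (Set.toFinite _) (fun z hz => hno z hz)
    rw [Nat.card_coe_set_eq] at h1
    have := Set.ncard_insert_le (1 : G) {x}
    rw [Set.ncard_singleton] at this
    omega
  simp only [Set.mem_insert_iff, Set.mem_singleton_iff, not_or] at hy'
  exact ⟨x, y, hx1, hy'.1, fun e => hy'.2 e.symm, by rw [← pow_two, hA2 x hx],
    by rw [← pow_two, hA2 y hy], congrArg Subtype.val (mul_comm' (⟨x, hx⟩ : A) ⟨y, hy⟩)⟩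

/-- The form of S2903. -/
theorem s2903_of (hsp : BenderSplit.{u}) (h2G : TwoGroupStmt.{u, u})
    (hrank : Cfsg.PRankAtLeast 2 2 G) (hH : Cfsg.IsStronglyPEmbedded 2 H) :
    Group.IsSolvable ↥H :=
  isSolvable_of_rankTwo hsp h2G (stronglyEmbedded_of_spe hH) (rankTwo_of_pRankAtLeast hrank)

/-- The form of S2798. -/
theorem s2798_of (hsp : BenderSplit.{u}) (hs : ShapeStmt.{u, u}) (hu : UniqStmt.{u, u})
    (hX : Cfsg.IsStronglyPEmbedded 2 H) :
    (∀ t : G, orderOf t = 2 → Cfsg.pPrimeCore 2 G ⊔ centralizer ({t} : Set G) = ⊤ ∧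
        ∀ u ∈ centralizer ({t} : Set G), orderOf u = 2 → u = t) ∨
    (∃ (F : Type) (_ : Field F) (_ : Fintype F), CharP F 2 ∧ 4 ≤ Fintype.card F ∧
        Nonempty (↥(Cfsg.pElementClosure 2 (⊤ : Subgroup (G ⧸ Cfsg.pPrimeCore 2 G))) ≃*
          Matrix.SpecialLinearGroup (Fin 2) F)) ∨
    (∃ (F : Type) (_ : Field F) (_ : Fintype F) (q : ℕ), Even q ∧ 4 ≤ q ∧ Fintype.card F = q ^ 2 ∧
        Nonempty (↥(Cfsg.pElementClosure 2 (⊤ : Subgroup (G ⧸ Cfsg.pPrimeCore 2 G))) ≃*
          Cfsg.PSU 3 F q)) ∨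
    Cfsg.Lie.IsoSuzuki ↥(Cfsg.pElementClosure 2 (⊤ : Subgroup (G ⧸ Cfsg.pPrimeCore 2 G))) := by
  haveI : Fact (Nat.Prime 2) := ⟨Nat.prime_two⟩
  have hH := stronglyEmbedded_of_spe hX
  by_cases h : RankTwo G
  swap
  · refine Or.inl fun t ht => ⟨?_, fun w hw hw2 => no_four_of_not_rankTwo h hw2 ht
      (mem_centralizer_singleton_iff.1 hw)⟩
    have hno := fun (x y : G) hx hy hxy => no_four_of_not_rankTwo h (x := x) (y := y) hx hy hxy
    have hsame : ∀ x : G, orderOf x = 2 → Commute x t → x = t := fun x hx hxy => hno x t hx ht hxy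
    obtain ⟨N, hN, hNodd, hcomm⟩ : ∃ N : Subgroup G, N.Normal ∧ Odd (Nat.card N) ∧
        ∀ g : G, t * g * t⁻¹ * g⁻¹ ∈ N := by
      have hzp : IsPGroup 2 (zpowers t) :=
        IsPGroup.of_card (n := 1) (by rw [Nat.card_zpowers, ht, pow_one])
      obtain ⟨P, hP⟩ := hzp.exists_le_sylow
      have htP : t ∈ (P : Subgroup G) := hP (mem_zpowers t)
      haveI : Nontrivial (P : Subgroup G) :=
        ⟨⟨t, htP⟩, 1, fun e => TwoFusionB.ne_one_of_inv ht (congrArg Subtype.val e)⟩
      have hcent : ∀ z ∈ (P : Subgroup G), orderOf z = 2 → z = t := by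
        haveI := P.2.center_nontrivial
        obtain ⟨c, hc⟩ : ∃ c : center (P : Subgroup G), orderOf c = 2 := by
          refine exists_prime_orderOf_dvd_card' 2 ?_
          rcases (P.2.to_subgroup (center (P : Subgroup G))).card_eq_or_dvd with h0 | h0
          · exact absurd h0 Finite.one_lt_card.ne'
          · exact h0
        have hc2 : orderOf ((c : (P : Subgroup G)) : G) = 2 := by
          rw [orderOf_coe, orderOf_coe, hc]
        have key : ∀ e ∈ (P : Subgroup G), orderOf e = 2 → e = ((c : (P : Subgroup G)) : G) :=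
          fun e he he2 => hno e _ he2 hc2 (congrArg Subtype.val (mem_center_iff.1 c.2 ⟨e, he⟩))
        intro z hz hz2
        rw [key z hz hz2, key t htP ht]
      exact ZStar.zStar ht ((S0216.result P t ht htP).mp fun g hg =>
        hcent _ hg (by rw [TwoFusionB.orderOf_conj_eq, ht]))
    refine (eq_top_iff' _).2 fun g => ?_
    have hy : orderOf (g * t * g⁻¹) = 2 := by rw [TwoFusionB.orderOf_conj_eq, ht]
    have hty : t * (g * t * g⁻¹) ∈ N := by
      have h' := hcomm g
      rwa [TwoFusionB.inv_eq_of_inv ht,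
        show t * g * t * g⁻¹ = t * (g * t * g⁻¹) by group] at h'
    obtain ⟨w, hw, hwe⟩ := RankOne.dihedral_conj (TwoFusionB.sq_eq_one_of_inv ht)
      (TwoFusionB.sq_eq_one_of_inv hy)
      (hNodd.of_dvd_nat (Subgroup.orderOf_dvd_natCard N hty))
    have hwN : w ∈ Cfsg.pPrimeCore 2 G :=
      Thompson.le_pPrimeCore hN (Nat.coprime_two_right.mpr hNodd) (zpowers_le.mpr hty hw)
    have hcH : w⁻¹ * g ∈ centralizer ({t} : Set G) := by
      rw [mem_centralizer_singleton_iff]
      have h1 : w * t = g * t * g⁻¹ * w := by rw [← hwe]; group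
      symm
      calc t * (w⁻¹ * g) = w⁻¹ * (w * t) * w⁻¹ * g := by group
        _ = w⁻¹ * g * t := by rw [h1]; group
    rw [show g = w * (w⁻¹ * g) by group]
    exact mul_mem_sup hwN hcH
  refine Or.inr ?_
  rcases isR1Type_pElementClosure hsp hs hu (stronglyEmbedded_map hH h) (rankTwo_quotient h)
      oddCore_quotient with ⟨F, iF, iT, ⟨n, hn, hF⟩, ⟨e⟩⟩ | hsz | ⟨F, iF, iT, n, hn, hF, he⟩
  · refine Or.inl ⟨F, iF, iT, charP_of_card_eq_prime_pow hF,
      hF ▸ Nat.pow_le_pow_right (n := 2) two_pos hn, ⟨e.trans (LinearGroup.slEquivPSL ?_).symm⟩⟩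
    rw [Fintype.card_fin, Nat.card_eq_fintype_card, hF]
    refine Nat.Coprime.gcd_eq_one (Nat.coprime_two_left.2 (Nat.Even.sub_odd Nat.one_le_two_pow ?_ odd_one))
    exact even_iff_two_dvd.2 (dvd_pow_self 2 (by omega))
  · exact Or.inr (Or.inr hsz)
  · exact Or.inr (Or.inl ⟨F, iF, iT, 2 ^ n, even_iff_two_dvd.2 (dvd_pow_self 2 (by omega)),
      Nat.pow_le_pow_right (n := 2) two_pos hn, hF, he⟩)

end Cfsg.Agent.BenderCons37
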