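import Cfsg.Agent.BenderCons37.Classify
import Cfsg.Agent.Suz27.Final

/-!
The consumers of Bender's theorem with Suzuki's theorem inserted: `BenderSplit` is the only
remaining hypothesis.
-/

set_option autoImplicit false

namespace Cfsg.Agent.BenderCons37

open Subgroup

universe u

theorem twoGroupStmt : TwoGroupStmt.{u, u} := twoGroupStmt_of Suz27.hasTypeStmt

variable {G : Type u} [Group G] [Finite G] {H : Subgroup G}

/-- The form of S1221. -/
theorem s1221_of (hsp : BenderSplit.{u}) (hH : Cfsg.IsStronglyEmbedded H) :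
    (Cfsg.oddCore ↥H).map H.subtype ≤ Cfsg.oddCore G :=
  benderCore hsp twoGroupStmt hH

/-- The form of S1223. -/
theorem s1223_of (hsp : BenderSplit.{u}) (hH : Cfsg.IsStronglyEmbedded H) (hcore : H.normalCore = ⊥)
    (u : G) (hu : orderOf u = 2) (huH : u ∉ H) (j : G)
    (hj : j ∈ H ⊓ H.map (MulAut.conj u).toMonoidHom) (hj1 : j ≠ 1) (hinv : u * j * u⁻¹ = j⁻¹) :
    Odd (Nat.card (centralizer ({j} : Set G))) :=
  odd_centralizer hsp twoGroupStmt hH hcore u hu huH j hj hj1 hinv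

/-- The form of S0222. -/
theorem s0222' [IsSimpleGroup G] (hsp : BenderSplit.{u}) (hH : Cfsg.IsStronglyEmbedded H) :
    (∃ (F : Type) (_ : Field F) (_ : Fintype F), CharP F 2 ∧ 4 ≤ Fintype.card F ∧
        Nonempty (G ≃* Matrix.ProjectiveSpecialLinearGroup (Fin 2) F)) ∨ Cfsg.IsSuzuki G ∨
      (∃ (F : Type) (_ : Field F) (_ : Fintype F) (q : ℕ), Fintype.card F = q ^ 2 ∧ Even q ∧ 4 ≤ q ∧
        Nonempty (G ≃* Cfsg.PSU 3 F q)) :=
  s0222_of hsp Suz27.shapeStmt Suz27.uniqStmt hH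

/-- The form of S2903. -/
theorem s2903' (hsp : BenderSplit.{u}) (hrank : Cfsg.PRankAtLeast 2 2 G)
    (hH : Cfsg.IsStronglyPEmbedded 2 H) : Group.IsSolvable ↥H :=
  s2903_of hsp twoGroupStmt hrank hH

/-- The form of S2798. -/
theorem s2798' (hsp : BenderSplit.{u}) (hX : Cfsg.IsStronglyPEmbedded 2 H) :
    (∀ t : G, orderOf t = 2 → Cfsg.pPrimeCore 2 G ⊔ centralizer ({t} : Set G) = ⊤ ∧
        ∀ u ∈ centralizer ({t} : Set G), orderOf u = 2 → u = t) ∨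
    (∃ (F : Type) (_ : Field F) (_ : Fintype F), CharP F 2 ∧ 4 ≤ Fintype.card F ∧
        Nonempty (↥(Cfsg.pElementClosure 2 (⊤ : Subgroup (G ⧸ Cfsg.pPrimeCore 2 G))) ≃*
          Matrix.SpecialLinearGroup (Fin 2) F)) ∨
    (∃ (F : Type) (_ : Field F) (_ : Fintype F) (q : ℕ), Even q ∧ 4 ≤ q ∧ Fintype.card F = q ^ 2 ∧
        Nonempty (↥(Cfsg.pElementClosure 2 (⊤ : Subgroup (G ⧸ Cfsg.pPrimeCore 2 G))) ≃*
          Cfsg.PSU 3 F q)) ∨
    Cfsg.Lie.IsoSuzuki ↥(Cfsg.pElementClosure 2 (⊤ : Subgroup (G ⧸ Cfsg.pPrimeCore 2 G))) :=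
  s2798_of hsp Suz27.shapeStmt Suz27.uniqStmt hX

end Cfsg.Agent.BenderCons37
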